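import Cfsg.Agent.Lib.Spor.Co1Invol.Group
import Cfsg.Agent.Lib.Spor.Co2Invol.Core
import Cfsg.Agent.Lib.Components.LocalLayer
import Cfsg.Agent.Lib.PLocal.QdOverApps
import Cfsg.Agent.S0296
import Cfsg.Prelude.Def_Spor_Conway

/-!
The centraliser of a 2-central involution of `Co₁` is `2^{1+8}.Ω⁺₈(2)`.
-/

set_option autoImplicit false
set_option Elab.async false
set_option maxRecDepth 100000
set_option maxHeartbeats 0

namespace CfsgLib.Spor.Co1Invol

open Cfsg
open CfsgLib.Spor
open CfsgLib.Spor.Co2Invol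
open CfsgLib.Spor.Config (dot_self)
open CfsgLib.Spor.ShortPairs (v0)
open CfsgLib.ThreeTransp.CoReduce (bigE)
open CfsgLib.KnownB.O8Mult (Qf Iso Om omega_facts)
open CfsgLib.Base (le_pCore isPGroup_pCore pCore_quotient)
open scoped symmDiff Pointwise

/-! ### The centraliser in the quotient by the centre -/

/-- the image of the involution -/
def zBar : Spor.Co1 := QuotientGroup.mk tEl

/-- its centraliser -/
abbrev cBar : Subgroup Spor.Co1 := Subgroup.centralizer {zBar}

theorem negEl_sq : negEl * negEl = (1 : Co0) :=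
  co0_ext fun i => by rw [mul_smul, negEl_smul, negEl_smul, neg_neg, one_smul]

theorem mk_eq_iff {a b : Co0} :
    (QuotientGroup.mk a : Spor.Co1) = QuotientGroup.mk b ↔ b = a ∨ b = negEl * a := by
  rw [QuotientGroup.eq, ← SetLike.mem_coe, center_eq, Set.mem_insert_iff, Set.mem_singleton_iff]
  have hc := Subgroup.mem_center_iff.1 negEl_central a
  constructor
  · rintro (h | h)
    · exact Or.inl (inv_mul_eq_one.1 h).symm
    · exact Or.inr (by rw [← hc, ← h, mul_inv_cancel_left])
  · rintro (rfl | rfl)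
    · exact Or.inl (inv_mul_cancel _)
    · exact Or.inr (by rw [← hc, inv_mul_cancel_left])

/-- short vectors supported outside the octad -/
def outShort : List (List ℤ) :=
  (((List.range 24).filter fun i => !oct.testBit i).flatMap fun i =>
    (((List.range 24).filter fun j => !oct.testBit j && i < j)).flatMap fun j =>
      [(4, 4), (4, -4), (-4, 4), (-4, -4)].map fun st : ℤ × ℤ =>
        (List.range 24).map fun q => if q = i then st.1 else if q = j then st.2 else 0).take 241

/-- packed coordinates -/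
def packL24 (l : List ℤ) : ℕ := packW (fun i => (l.getD i 0 + 128).toNat) 24

theorem outShort_nodup : (outShort.map packL24).Nodup ∧ outShort.length = 241 := by decide +kernel

theorem outShort_spec :
    (outShort.all fun l => inLeechB (lOf (vOf l)) && decide (lOf (vOf l) = l) &&
      decide (dotF l l = 32) && ((List.range 24).all fun q => !oct.testBit q || decide (l.getD q 0 = 0))) = true := by
  decide +kernel

/-- No element sends the involution to its negative. -/
theorem not_anti {k : Co0} : tEl * k ≠ negEl * (k * tEl) := by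
  classical
  intro h
  obtain ⟨hnd, hlen⟩ := outShort_nodup
  have hall := outShort_spec
  simp only [List.all_eq_true, Bool.and_eq_true, decide_eq_true_eq, List.mem_range,
    Bool.or_eq_true, Bool.not_eq_true'] at hall
  let f : leechLattice → List ℤ := fun x => lOf (x : GolayPt → ℤ)
  have hinj : Function.Injective f := fun a b h => Subtype.ext (lOf_inj h)
  set T : Set leechLattice := {x | sqNorm (x : GolayPt → ℤ) = 32 ∧ tEl • x = -x}
  have hmap : ∀ x ∈ T, Root8 (k • x) := by
    intro x hx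
    refine ⟨(coe_smul_sqNorm k x).trans hx.1, supp_iff.2 ?_⟩
    rw [← mul_smul, h, mul_smul, mul_smul, hx.2, smul_neg_co0, negEl_smul, neg_neg]
  have hTfin : T.Finite := (finite_normSet 32).subset fun x hx => hx.1
  have hle : T.ncard ≤ 240 := by
    rw [← Set.ncard_image_of_injective _ (hinj.comp (MulAction.injective k))]
    refine le_trans (Set.ncard_le_ncard (t := (↑(e8Tab.map Prod.fst).toFinset : Set (List ℤ))) ?_
      (Finset.finite_toSet _)) ?_
    · rintro _ ⟨x, hx, rfl⟩
      obtain ⟨e, he, hl⟩ := mem_e8Tab (hmap x hx)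
      exact List.mem_toFinset.2 (List.mem_map.2 ⟨e, he, hl⟩)
    · rw [Set.ncard_coe_finset]
      exact le_trans (List.toFinset_card_le _) (le_of_eq (by decide +kernel))
  have hge : 241 ≤ (f '' T).ncard := by
    rw [← hlen, ← List.toFinset_card_of_nodup hnd.of_map, ← Set.ncard_coe_finset]
    refine Set.ncard_le_ncard (fun l hl => ?_) (hTfin.image f)
    obtain ⟨⟨⟨h1, h2⟩, h3⟩, h4⟩ := hall l (List.mem_toFinset.1 hl)
    refine ⟨⟨vOf l, mem_leech_of_inLeechB h1⟩, ⟨?_, ?_⟩, h2⟩
    · show sqNorm (vOf l) = 32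
      rw [← dot_self, dotInt_eq_dotF, h2, h3]
    · refine Subtype.ext (funext fun p => ?_)
      rw [tEl_apply, NegMemClass.coe_neg, Pi.neg_apply]
      split
      · rename_i hp
        show vOf l p = -vOf l p
        have h5 : (lOf (vOf l)).getD (idx p) 0 = 0 := by
          rw [h2]
          exact (h4 (idx p) (idx_lt p)).resolve_left (by rw [show oct.testBit (idx p) = inO p from rfl, hp]; decide)
        rw [lOf_getD _ (idx_lt p), pt_idx] at h5
        rw [h5]; rfl
      · rfl
  rw [Set.ncard_image_of_injective _ hinj] at hge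
  omega

theorem mk_mem_cBar (k : ↥c1) : (QuotientGroup.mk (k : Co0) : Spor.Co1) ∈ cBar := by
  rw [Subgroup.mem_centralizer_iff]
  rintro _ rfl
  exact congrArg QuotientGroup.mk (mem_c1.1 k.2)

/-- reduction modulo the centre -/
def red : ↥c1 →* ↥cBar where
  toFun k := ⟨QuotientGroup.mk (k : Co0), mk_mem_cBar k⟩
  map_one' := rfl
  map_mul' _ _ := rfl

theorem red_surjective : Function.Surjective red := by
  rintro ⟨x, hx⟩
  obtain ⟨k, rfl⟩ := QuotientGroup.mk_surjective x
  have h : (QuotientGroup.mk (tEl * k) : Spor.Co1) = QuotientGroup.mk (k * tEl) :=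
    Subgroup.mem_centralizer_iff.1 hx zBar (Set.mem_singleton _)
  rcases mk_eq_iff.1 h with h | h
  · exact ⟨⟨k, mem_c1.2 h.symm⟩, rfl⟩
  · refine absurd ?_ (not_anti (k := k))
    rw [h, ← mul_assoc, negEl_sq, one_mul]

theorem red_eq_iff {a b : ↥c1} :
    red a = red b ↔ (b : Co0) = (a : Co0) ∨ (b : Co0) = negEl * (a : Co0) :=
  ⟨fun h => mk_eq_iff.1 (congrArg Subtype.val h), fun h => Subtype.ext (mk_eq_iff.2 h)⟩

theorem red_ker_le : red.ker ≤ psi.ker := fun k hk => by
  rw [MonoidHom.mem_ker, ← map_one red] at hk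
  refine psi_of_mem ?_
  rcases red_eq_iff.1 hk with h | h
  · exact Or.inl (by rw [← h]; exact one_mem _)
  · exact Or.inr (by rw [← h]; exact one_mem _)

/-- the action of the centraliser on residues -/
noncomputable def psiBar : ↥cBar →* Iso := red.liftOfSurjective red_surjective ⟨psi, red_ker_le⟩

theorem psiBar_red (k : ↥c1) : psiBar (red k) = psi k :=
  MonoidHom.liftOfRightInverse_comp_apply red _ _ ⟨psi, red_ker_le⟩ k

/-- the normal extraspecial subgroup -/
noncomputable def qBar : Subgroup ↥cBar := psiBar.ker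

theorem mem_qBar {x : ↥cBar} :
    x ∈ qBar ↔ ∃ k : ↥c1, (k : Co0) ∈ octFix ∧ red k = x := by
  obtain ⟨k, rfl⟩ := red_surjective x
  rw [qBar, MonoidHom.mem_ker, psiBar_red]
  constructor
  · intro h
    rcases psi_ker_mem h with h | h
    · exact ⟨k, h, rfl⟩
    · refine ⟨⟨negEl * k, mul_mem negEl_mem_c1 k.2⟩, h, ?_⟩
      exact (red_eq_iff.2 (Or.inr rfl)).symm
  · rintro ⟨k', h, he⟩
    rw [← psiBar_red, ← he, psiBar_red]
    exact psi_of_mem (Or.inl h)

/-- the extraspecial subgroup is a copy of the kernel in `Co₂` -/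
noncomputable def qEquiv : ↥Co2Invol.phi.ker ≃* ↥qBar :=
  MulEquiv.ofBijective
    ({ toFun := fun k => ⟨red ⟨k.1.1, ct_le_c1 k.1.2⟩, mem_qBar.2 ⟨_, Co2Invol.ker_le k.2, rfl⟩⟩
       map_one' := rfl
       map_mul' := fun _ _ => rfl } : ↥Co2Invol.phi.ker →* ↥qBar)
    ⟨fun a b h => by
      rcases red_eq_iff.1 (congrArg Subtype.val h) with e | e
      · exact Subtype.ext (Subtype.ext e.symm)
      · refine absurd ?_ negEl_not_octFix
        rw [show negEl = (b.1.1 : Co0) * (a.1.1)⁻¹ by rw [e, mul_inv_cancel_right]]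
        exact mul_mem (Co2Invol.ker_le b.2) (inv_mem (Co2Invol.ker_le a.2)),
    fun x => by
      obtain ⟨k, hk, he⟩ := mem_qBar.1 x.2
      exact ⟨⟨⟨k.1, hk.1⟩, (Co2Invol.mem_ker_iff _).2 hk⟩, Subtype.ext he⟩⟩

theorem isExtraspecial_qBar : IsExtraspecial 2 ↥qBar :=
  CfsgLib.PLocal.Affine.extraspecial_of_equiv qEquiv Co2Invol.isExtraspecial_ker

theorem natCard_qBar : Nat.card ↥qBar = 512 := by
  rw [← Nat.card_congr qEquiv.toEquiv, Co2Invol.natCard_ker]

/-- the quotient -/
noncomputable def quotEquiv : ↥cBar ⧸ psiBar.ker ≃* ↥Om :=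
  (QuotientGroup.quotientKerEquivRange psiBar).trans (MulEquiv.subgroupCongr (by
    rw [← psi_range]
    ext y
    constructor
    · rintro ⟨x, rfl⟩
      obtain ⟨k, rfl⟩ := red_surjective x
      exact ⟨k, (psiBar_red k).symm⟩
    · rintro ⟨k, rfl⟩
      exact ⟨red k, psiBar_red k⟩))

theorem isSimple_om : IsSimpleGroup ↥Om := by
  haveI : IsSimpleGroup (Cfsg.POmega (ZMod 2) Qf) :=
    Cfsg.Agent.S0296.result (F := ZMod 2) 4 le_rfl
  exact ((QuotientGroup.quotientBot (G := Om)).symm.trans
    (QuotientGroup.quotientMulEquivOfEq omega_facts.1.symm)).isSimpleGroup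

theorem natCard_om_ne : Nat.card ↥Om = 174182400 := CfsgLib.KnownB.O8Mult.natCard_om

theorem pCore_cBar : pCore 2 ↥cBar = qBar := by
  have hp : IsPGroup 2 ↥qBar := IsPGroup.of_card (n := 9) (by rw [natCard_qBar]; norm_num)
  haveI : qBar.Normal := MonoidHom.normal_ker _
  refine le_antisymm ?_ (le_pCore hp)
  haveI := isSimple_om
  haveI : Fact (Nat.Prime 2) := ⟨Nat.prime_two⟩
  have hbot : pCore 2 ↥Om = ⊥ := by
    rcases Subgroup.Normal.eq_bot_or_eq_top (H := pCore 2 ↥Om) inferInstance with h | h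
    · exact h
    · exfalso
      have h2 := isPGroup_pCore 2 ↥Om
      rw [h] at h2
      obtain ⟨n, hn⟩ := IsPGroup.iff_card.1 (h2.of_equiv Subgroup.topEquiv)
      rw [natCard_om_ne] at hn
      have h3 : 3 ∣ 2 ^ n := by rw [← hn]; norm_num
      exact absurd ((Nat.prime_dvd_prime_iff_eq Nat.prime_three Nat.prime_two).1
        (Nat.prime_three.dvd_of_dvd_pow h3)) (by norm_num)
  have h := CfsgLib.Base.map_pCore_mulEquiv (p := 2) quotEquiv.symm
  rw [hbot, Subgroup.map_bot, pCore_quotient psiBar.ker hp] at h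
  have := (Subgroup.map_eq_bot_iff _).1 h.symm
  rwa [QuotientGroup.ker_mk'] at this

/-! ### Self-centralisation -/

theorem moving_check : c1Gens.any (fun P => match P with
    | [.mono a _] => Nat.beq (actP a out) out && outWords.any fun w =>
        !Nat.beq (actP a w) w && !Nat.beq (actP a w) (w ^^^ out)
    | _ => false) = true := by decide +kernel

theorem eps_mem {w : ℕ} (hw : w ∈ outWords) :
    ∃ m : MonoIdx, monoEl m ∈ octFix ∧ m.1 = 1 ∧ (m.2 : Finset GolayPt) = toSet w := by
  obtain ⟨h1, -, -, -⟩ := outWords_spec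
  simp only [List.all_eq_true, Bool.and_eq_true, decide_eq_true_eq, Nat.beq_eq] at h1
  refine ⟨(1, ⟨toSet w, toSet_mem_supports (h1 w hw).1⟩),
    mono_mem_octFix (fun _ _ => rfl) fun i hi => ?_, rfl, rfl⟩
  have h := congrArg (fun x => Nat.testBit x (idx i)) (h1 w hw).2
  simp only [Nat.testBit_and, mem_toSet.1 hi, Bool.true_and, Nat.zero_testBit] at h
  exact h

/-- A monomial element of the centraliser that does not act as an inner automorphism. -/
theorem exists_outer : ∃ k a : ↥c1, (a : Co0) ∈ octFix ∧ ∀ q : ↥c1, (q : Co0) ∈ octFix →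
    red (k * a * k⁻¹) ≠ red (q * a * q⁻¹) := by
  obtain ⟨P, hP, hm⟩ := List.any_eq_true.1 moving_check
  match P, hP, hm with
  | [Stp.mono s c], hP, hm =>
    simp only [Bool.and_eq_true, List.any_eq_true, Bool.not_eq_true', Nat.beq_eq] at hm
    obtain ⟨hout, w, hw, hw1, hw2⟩ := hm
    have hok : [Stp.mono s c].all Stp.ok = true :=
      List.all_eq_true.1 (by decide +kernel : c1Gens.all (fun P => P.all Stp.ok) = true) _ hP
    simp only [List.all_cons, List.all_nil, Bool.and_true, Stp.ok, Bool.and_eq_true] at hok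
    obtain ⟨σ, hσ, hr⟩ := exists_rep_M24 hok.1.1
    obtain ⟨m, hm, hm1, hm2⟩ := eps_mem hw
    let p : MonoIdx := (⟨σ, hσ⟩, ⟨∅, empty_supports⟩)
    have hout' : σ • toSet out = toSet out := hr.smul_toSet_eq hout
    have hp : monoEl p ∈ c1 := mem_c1.2 (by
      rw [tEl, monoEl_mul, monoEl_mul]
      refine Co2Invol.mono_eq (by rw [one_mul, mul_one]) ?_
      show toSet out ∆ ((1 : Equiv.Perm GolayPt) • (∅ : Finset GolayPt)) =
        (∅ : Finset GolayPt) ∆ (σ • toSet out)
      rw [one_smul, hout', symmDiff_comm])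
    refine ⟨⟨_, hp⟩, ⟨monoEl m, ct_le_c1 hm.1⟩, hm, fun q hq h => ?_⟩
    obtain ⟨n, b, v, hn, -, hb, hnr, -, hnv⟩ := kernel_form hq
    -- both sides as monomial elements
    obtain ⟨r, hre, hr1, hr2⟩ := mono_mul_masks (p := p) (q := m) hr toSet_zero'.symm hm2
    obtain ⟨l, hl, hl1, hl2⟩ := mono_mul_masks (p := n) (q := m) hnr hnv hm2
    have e1 : ∃ r' : MonoIdx, monoEl r' = monoEl p * monoEl m * (monoEl p)⁻¹ ∧ r'.1 = 1 ∧
        (r'.2 : Finset GolayPt) = toSet (actP s w) := by
      refine ⟨(1, ⟨toSet (actP s w), by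
        rw [← Nat.zero_xor (actP s w), ← hr2]; exact r.2.2⟩), ?_, rfl, rfl⟩
      rw [eq_mul_inv_iff_mul_eq, monoEl_mul, ← hre]
      refine Co2Invol.mono_eq (by rw [hr1, hm1, mul_one, one_mul]) ?_
      refine Eq.trans ?_ hr2.symm
      show toSet (actP s w) ∆ ((1 : Equiv.Perm GolayPt) • (∅ : Finset GolayPt)) = _
      rw [one_smul, Nat.zero_xor]
      exact symmDiff_bot _
    obtain ⟨hQ0, hQ, -, -, -⟩ := perm_tables
    simp only [List.all_eq_true, Bool.or_eq_true, Nat.beq_eq] at hQ
    have e2 : ∃ l' : MonoIdx, monoEl l' = monoEl n * monoEl m * (monoEl n)⁻¹ ∧ l'.1 = 1 ∧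
        (l'.2 : Finset GolayPt) = toSet (actP b w) := by
      have hwl : toSet (actP b w) = (n.1 : Equiv.Perm GolayPt) • (m.2 : Finset GolayPt) := by
        rw [hm2, hnr.toSet_actP]
      refine ⟨(1, ⟨toSet (actP b w), by rw [hwl]; exact smul_supports n.1.2 m.2.2⟩), ?_, rfl, rfl⟩
      rw [eq_mul_inv_iff_mul_eq, monoEl_mul, ← hl]
      refine Co2Invol.mono_eq (by rw [hl1, hm1, mul_one, one_mul]) ?_
      show toSet (actP b w) ∆ ((1 : Equiv.Perm GolayPt) • (n.2 : Finset GolayPt)) = _
      rw [hl2, one_smul, hnv, ← toSet_xor, Nat.xor_comm]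
    obtain ⟨r', hr', hr'1, hr'2⟩ := e1
    obtain ⟨l', hl', hl'1, hl'2⟩ := e2
    have hr'O : monoEl r' ∈ c1 := hr' ▸ mul_mem (mul_mem hp (ct_le_c1 hm.1)) (inv_mem hp)
    have hsup : ∀ i, i ∈ (r'.2 : Finset GolayPt) → inO i = false := by
      intro i hi
      rw [hr'2, hr.toSet_actP, Finset.mem_smul_finset] at hi
      obtain ⟨j, hj, rfl⟩ := hi
      have hjo : j ∈ toSet out := by
        rw [mem_toSet, out_testBit]
        obtain ⟨h1, -, -, -⟩ := outWords_spec
        simp only [List.all_eq_true, Bool.and_eq_true, decide_eq_true_eq, Nat.beq_eq] at h1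
        have h := congrArg (fun x => Nat.testBit x (idx j)) (h1 w hw).2
        simp only [Nat.testBit_and, mem_toSet.1 hj, Bool.true_and, Nat.zero_testBit] at h
        rw [show inO j = false from h]; rfl
      have : σ • j ∈ toSet out := by
        rw [← hout']
        exact Finset.smul_mem_smul_finset hjo
      rw [mem_toSet, out_testBit] at this
      simpa using this
    have hr'F : monoEl r' ∈ octFix := mono_mem_octFix (fun i _ => by rw [hr'1]; rfl) hsup
    rcases red_eq_iff.1 h with e | e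
    · have e' : monoEl l' = monoEl r' := by
        rw [hl', hr']
        rw [hn]
        exact e
      have e'' := congrArg (fun x : MonoIdx => mask (x.2 : Finset GolayPt)) (monoEl_injective e')
      simp only [hr'2, hl'2] at e''
      rw [mask_toSet (hnr.actP_lt w), mask_toSet (hr.actP_lt w)] at e''
      rcases hQ b hb w hw with hh | hh
      · rw [← e'', ← Nat.xor_eq_zero_iff.1 hh] at hw1
        simp at hw1
      · rw [← e'', ← hh, ← Nat.xor_assoc, Nat.xor_self, Nat.zero_xor] at hw2
        simp at hw2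
    · refine negEl_not_octFix ?_
      have hlF : monoEl n * monoEl m * (monoEl n)⁻¹ ∈ octFix := by
        rw [hn]; exact mul_mem (mul_mem hq hm) (inv_mem hq)
      have e' : monoEl n * monoEl m * (monoEl n)⁻¹ = negEl * monoEl r' := by
        rw [hn, hr']; exact e
      rw [show negEl = (monoEl n * monoEl m * (monoEl n)⁻¹) * (monoEl r')⁻¹ by
        rw [e', mul_inv_cancel_right]]
      exact mul_mem hlF (inv_mem hr'F)
  | [], _, hm => simp at hm
  | [Stp.xi], _, hm => simp at hm
  | _ :: _ :: _, _, hm => simp at hm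

theorem fstar_cBar : generalizedFittingSubgroup ↥cBar = qBar := by
  haveI : qBar.Normal := MonoidHom.normal_ker _
  haveI : Fact (Nat.Prime 2) := ⟨Nat.prime_two⟩
  rw [← pCore_cBar, CfsgLib.Components.fstar_eq_pCore_iff, pCore_cBar]
  set K := Subgroup.centralizer (qBar : Set ↥cBar) with hK
  haveI := isSimple_om
  let g : ↥cBar →* ↥Om := (quotEquiv : ↥cBar ⧸ psiBar.ker →* ↥Om).comp (QuotientGroup.mk' _)
  have hg : Function.Surjective g := quotEquiv.surjective.comp (QuotientGroup.mk'_surjective _)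
  have hker : ∀ x, g x = 1 → x ∈ qBar := fun x hx => by
    have h1 : (QuotientGroup.mk x : ↥cBar ⧸ psiBar.ker) = 1 :=
      quotEquiv.injective (hx.trans (map_one _).symm)
    exact (QuotientGroup.eq_one_iff x).1 h1
  haveI : K.Normal := inferInstance
  rcases Subgroup.Normal.eq_bot_or_eq_top (Subgroup.Normal.map (inferInstance : K.Normal) g hg)
    with h | h
  · exact fun x hx => hker x ((Subgroup.eq_bot_iff_forall _).1 h _ ⟨x, hx, rfl⟩)
  · exfalso
    obtain ⟨k, a, ha, hne⟩ := exists_outer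
    obtain ⟨c, hc, hce⟩ : g (red k) ∈ K.map g := by rw [h]; exact Subgroup.mem_top _
    have hq : red k * c⁻¹ ∈ qBar := hker _ (by rw [map_mul, map_inv, hce, mul_inv_cancel])
    obtain ⟨q, hqo, hqe⟩ := mem_qBar.1 hq
    have hcomm : c * red a = red a * c :=
      (Subgroup.mem_centralizer_iff.1 hc (red a) (mem_qBar.2 ⟨a, ha, rfl⟩)).symm
    refine hne q hqo ?_
    have : red k = red q * c := by rw [hqe, inv_mul_cancel_right]
    simp only [map_mul, map_inv, this, mul_inv_rev, mul_assoc]
    rw [← mul_assoc c (red a), hcomm, mul_assoc, mul_inv_cancel_left]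

/-- A second conjugate of the involution lies in the extraspecial subgroup. -/
theorem exists_conj_mem : ∃ g : Spor.Co1, (∃ hq : g * zBar * g⁻¹ ∈ cBar,
    (⟨g * zBar * g⁻¹, hq⟩ : ↥cBar) ∈ qBar) ∧ g * zBar * g⁻¹ ≠ zBar := by
  have hw : (337856 : ℕ) ∈ outWords := by decide +kernel
  obtain ⟨m, hm, hm1, hm2⟩ := eps_mem hw
  have ho : toSet 337856 ∈ octads := by
    rw [mem_octads, mask_toSet (by norm_num)]
    decide +kernel
  obtain ⟨τ, hτ, hto⟩ := exists_smul_octad toSet_oct_octad ho
  let p : MonoIdx := (⟨τ, hτ⟩, ⟨∅, empty_supports⟩)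
  have key : monoEl p * tEl = negEl * monoEl m * monoEl p := by
    rw [tEl, negEl, monoEl_mul, monoEl_mul, monoEl_mul]
    refine Co2Invol.mono_eq (by rw [hm1, mul_one, one_mul, one_mul]) (Finset.ext fun i => ?_)
    show i ∈ (∅ : Finset GolayPt) ∆ (τ • toSet out) ↔ i ∈ ((Finset.univ : Finset GolayPt) ∆
      ((1 : Equiv.Perm GolayPt) • (m.2 : Finset GolayPt))) ∆
      ((((1 : ↥M24) * m.1 : ↥M24) : Equiv.Perm GolayPt) • (∅ : Finset GolayPt))
    rw [hm2, ← hto]
    simp only [Finset.mem_symmDiff, Finset.notMem_empty, Finset.smul_finset_empty, false_and,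
      not_false_eq_true, and_true, or_false, false_or, one_smul, Finset.mem_univ, true_and,
      ← Finset.inv_smul_mem_iff, mem_toSet, out_testBit]
    simp [inO]
  have hz : (QuotientGroup.mk (monoEl p) : Spor.Co1) * zBar * (QuotientGroup.mk (monoEl p))⁻¹ =
      QuotientGroup.mk (monoEl m) := by
    show QuotientGroup.mk (monoEl p * tEl * (monoEl p)⁻¹) = _
    rw [key, mul_inv_cancel_right]
    exact mk_eq_iff.2 (Or.inr (by rw [← mul_assoc, negEl_sq, one_mul]))
  refine ⟨QuotientGroup.mk (monoEl p), ?_, ?_⟩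
  · simp only [hz]
    exact ⟨mk_mem_cBar ⟨_, ct_le_c1 hm.1⟩, mem_qBar.2 ⟨⟨_, ct_le_c1 hm.1⟩, hm, rfl⟩⟩
  · rw [hz]
    intro h
    rcases mk_eq_iff.1 h with e | e
    · rw [tEl] at e
      have e' := congrArg (fun x : MonoIdx => mask (x.2 : Finset GolayPt)) (monoEl_injective e)
      simp only [hm2] at e'
      rw [mask_toSet (by norm_num [out]), mask_toSet (by norm_num)] at e'
      simp [out] at e'
    · refine negEl_not_octFix ?_
      rw [show negEl = tEl * (monoEl m)⁻¹ by rw [e, mul_inv_cancel_right]]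
      refine mul_mem ?_ (inv_mem hm)
      exact mono_mem_octFix (fun _ _ => rfl) fun i hi => by
        rw [mem_toSet, out_testBit] at hi
        simpa using hi

theorem orderOf_zBar : orderOf zBar = 2 := by
  refine orderOf_eq_prime ?_ ?_
  · show QuotientGroup.mk (tEl ^ 2) = QuotientGroup.mk 1
    congr 1
    rw [pow_two, ← monoEl_one, tEl, monoEl_mul]
    refine Co2Invol.mono_eq (one_mul _) ?_
    show toSet out ∆ ((1 : Equiv.Perm GolayPt) • toSet out) = ∅
    rw [one_smul, symmDiff_self]; rfl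
  · intro h
    rcases mk_eq_iff.1 (h : (QuotientGroup.mk tEl : Spor.Co1) = QuotientGroup.mk 1) with e | e
    · exact (by decide +kernel : lOf ((bigE (pt 4) : leechLattice) : GolayPt → ℤ) ≠
        lOf ((tEl • bigE (pt 4) : leechLattice) : GolayPt → ℤ)) (by rw [← e, one_smul])
    · refine negEl_not_octFix ?_
      have ht : tEl ∈ octFix := mono_mem_octFix (fun _ _ => rfl) fun i hi => by
        rw [mem_toSet, out_testBit] at hi
        simpa using hi
      rw [show negEl = tEl⁻¹ from eq_inv_of_mul_eq_one_left e.symm]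
      exact inv_mem ht

end CfsgLib.Spor.Co1Invol
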