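import Cfsg.Agent.Lib.Spor.Co1Invol.Lattice
import Cfsg.Agent.Lib.KnownB.O8Mult.Main

/-!
The centraliser of the involution in `Co₀` maps onto `Ω⁺₈(2)`.
-/

set_option autoImplicit false
set_option Elab.async false
set_option maxRecDepth 100000
set_option maxHeartbeats 0

namespace CfsgLib.Spor.Co1Invol

open Cfsg
open CfsgLib.Spor
open CfsgLib.Spor.Config
open CfsgLib.Spor.Co2Invol
open CfsgLib.Spor.ShortPairs (v0)
open CfsgLib.ThreeTransp.CoReduce (bigE)
open CfsgLib.KnownB.O8Mult (Qf Iso Om natCard_iso natCard_om)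
open Matrix

/-- the centraliser of the involution -/
def c1 : Subgroup Co0 := Subgroup.centralizer {tEl}

theorem mem_c1 {g : Co0} : g ∈ c1 ↔ tEl * g = g * tEl := by
  simp [c1, Subgroup.mem_centralizer_iff]

theorem root8_smul {g : Co0} (hg : g ∈ c1) {r : leechLattice} (h : Root8 r) : Root8 (g • r) := by
  refine ⟨(coe_smul_sqNorm g r).trans h.1, ?_⟩
  rw [supp_iff, ← mul_smul, mem_c1.1 hg, mul_smul, supp_iff.1 h.2]

/-- residues -/
def key (r : leechLattice) : I → ZMod 2 := fun a => pr r (bd8 a)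

/-- the matrix of an element -/
def mat8 (g : ↥c1) : Matrix I I (ZMod 2) :=
  fun a j => pr ((g : Co0) • u1 j) (bd8 a) + pr ((g : Co0) • u2 j) (bd8 a)

theorem key_image (g : ↥c1) {y : leechLattice} (hy : Root8 y) :
    key ((g : Co0) • y) = mat8 g *ᵥ key y := by
  funext a
  have e : ∀ u, Root8 u → pr ((g : Co0) • y) u =
      ∑ j, pr y (bd8 j) * (pr ((g : Co0) • u1 j) u + pr ((g : Co0) • u2 j) u) := fun u hu => by
    rw [pr_adj, pr_root8 hy (root8_smul (inv_mem g.2) hu)]
    refine Finset.sum_congr rfl fun j _ => ?_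
    rw [pr_bs8 (root8_smul (inv_mem g.2) hu), pr_adj (g : Co0) (u1 j), pr_adj (g : Co0) (u2 j),
      pr_comm (u1 j), pr_comm (u2 j)]
  show pr ((g : Co0) • y) (bs8 a.swap) = _
  rw [pr_bs8 (root8_smul g.2 hy), e _ (root8_u1 _), e _ (root8_u2 _), ← Finset.sum_add_distrib,
    Matrix.mulVec, dotProduct]
  refine Finset.sum_congr rfl fun j _ => ?_
  show _ = (pr ((g : Co0) • u1 j) (bd8 a) + pr ((g : Co0) • u2 j) (bd8 a)) * pr y (bd8 j)
  rw [show bd8 a = bs8 a.swap from rfl, pr_bs8 (root8_smul g.2 (root8_u1 j)),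
    pr_bs8 (root8_smul g.2 (root8_u2 j))]
  ring

theorem mat8_mul (g h : ↥c1) : mat8 (g * h) = mat8 g * mat8 h := by
  ext a j
  rw [Matrix.mul_apply]
  show pr (((g : Co0) * h) • u1 j) (bd8 a) + pr (((g : Co0) * h) • u2 j) (bd8 a) = _
  rw [mul_smul, mul_smul]
  have h1 := congrFun (key_image g (root8_smul h.2 (root8_u1 j))) a
  have h2 := congrFun (key_image g (root8_smul h.2 (root8_u2 j))) a
  simp only [key, Matrix.mulVec, dotProduct] at h1 h2
  rw [h1, h2, ← Finset.sum_add_distrib]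
  exact Finset.sum_congr rfl fun c _ => (mul_add _ _ _).symm

theorem one_check : ∀ a j : I, prS (u1L j) a.swap + prS (u2L j) a.swap = if a = j then 1 else 0 := by
  decide +kernel

theorem mat8_one : mat8 1 = 1 := by
  ext a j
  show pr ((1 : Co0) • u1 j) (bd8 a) + pr ((1 : Co0) • u2 j) (bd8 a) = _
  rw [one_smul, one_smul, bd8, pr_bs8_eq (root8_u1 j), pr_bs8_eq (root8_u2 j), (lOf_u j).1,
    (lOf_u j).2, one_check, Matrix.one_apply]

/-- residues of a table entry, as a vector -/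
def kvec (k : ℕ) : I → ZMod 2 := fun a => if k.testBit (pos8 a).val then 1 else 0

theorem key_table' : ∀ e ∈ e8Tab, e.2.2 < 256 ∧ Qf (kvec e.2.2) = 1 := by
  decide +kernel

theorem key_table (e : List ℤ × List ℤ × ℕ) (he : e ∈ e8Tab) : e.2.2 < 256 ∧
    (∀ a, prS e.1 (Sum.swap a) = if e.2.2.testBit (pos8 a).val then 1 else 0) ∧
    Qf (kvec e.2.2) = 1 :=
  ⟨(key_table' e he).1, e8Tab_keys e he, (key_table' e he).2⟩

theorem key_spec {r : leechLattice} (hr : Root8 r) :
    ∃ e ∈ e8Tab, e.1 = lOf (r : GolayPt → ℤ) ∧ key r = kvec e.2.2 ∧ Qf (key r) = 1 := by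
  obtain ⟨e, he, hl⟩ := mem_e8Tab hr
  have hk : key r = kvec e.2.2 := by
    funext a
    rw [key, bd8, pr_bs8_eq hr, ← hl]
    exact (key_table e he).2.1 a
  exact ⟨e, he, hl, hk, by rw [hk]; exact (key_table e he).2.2⟩

/-- the code of a vector -/
def vcode (x : I → ZMod 2) : ℕ := ∑ a, if x a = 1 then 2 ^ (pos8 a).val else 0

theorem vcode_kvec : ∀ x : I → ZMod 2, kvec (vcode x) = x := by decide +kernel

theorem nonsing_check : ∀ x : I → ZMod 2, Qf x = 1 →
    (e8Tab.any fun e => Nat.beq e.2.2 (vcode x)) = true := by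
  decide +kernel

theorem e8_vec_check : ∀ e ∈ e8Tab, inLeechB (lOf (vOf e.1)) = true ∧ lOf (vOf e.1) = e.1 ∧
    sqNorm (vOf e.1) = 32 ∧ ∀ p, inO p = false → vOf e.1 p = 0 := by
  decide +kernel

theorem exists_root_key {x : I → ZMod 2} (hx : Qf x = 1) : ∃ r, Root8 r ∧ key r = x := by
  obtain ⟨e, he, hb⟩ := List.any_eq_true.1 (nonsing_check x hx)
  obtain ⟨h1, h2, h3, h4⟩ := e8_vec_check e he
  have hr : Root8 (mkV e.1 h1) := ⟨h3, h4⟩
  refine ⟨mkV e.1 h1, hr, ?_⟩
  funext a
  rw [key, bd8, pr_bs8_eq hr]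
  show prS (lOf (vOf e.1)) a.swap = _
  rw [h2, (key_table e he).2.1 a]
  rw [Nat.beq_eq] at hb
  rw [hb]
  exact congrFun (vcode_kvec x) a

theorem qf_cases : ∀ x : I → ZMod 2, Qf x = 0 ∨ Qf x = 1 := by decide +kernel

theorem qf_mat8 (g : ↥c1) (x : I → ZMod 2) : Qf (mat8 g *ᵥ x) = Qf x := by
  have h1 : ∀ (g : ↥c1) (x : I → ZMod 2), Qf x = 1 → Qf (mat8 g *ᵥ x) = 1 := fun g x hx => by
    obtain ⟨r, hr, rfl⟩ := exists_root_key hx
    rw [← key_image g hr]
    obtain ⟨-, -, -, -, h⟩ := key_spec (root8_smul g.2 hr)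
    exact h
  rcases qf_cases x with hx | hx
  · rcases qf_cases (mat8 g *ᵥ x) with hy | hy
    · rw [hx, hy]
    · have := h1 g⁻¹ _ hy
      rw [Matrix.mulVec_mulVec, ← mat8_mul, inv_mul_cancel, mat8_one, Matrix.one_mulVec, hx] at this
      exact absurd this zero_ne_one
  · rw [hx, h1 g x hx]

/-- the matrices as a map of monoids -/
def mat8Hom : ↥c1 →* Matrix I I (ZMod 2) where
  toFun := mat8
  map_one' := mat8_one
  map_mul' := mat8_mul

/-- the action on residues -/
def psi : ↥c1 →* Iso :=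
  mat8Hom.toHomUnits.codRestrict (Cfsg.isometryGroup (ZMod 2) Qf) fun g u _ => qf_mat8 g u

theorem mat8_eq_one_iff {g : ↥c1} : psi g = 1 ↔ mat8 g = 1 :=
  ⟨fun h => congrArg (fun k : Iso => ((k : GL I (ZMod 2)) : Matrix I I (ZMod 2))) h,
    fun h => Subtype.ext (Units.ext h)⟩

/-! ### The kernel -/

theorem key8_sep : (e8Tab.all fun e => e8Tab.all fun e' =>
    !Nat.beq e.2.2 e'.2.2 || decide (e'.1 = e.1) || decide (e'.1 = e.1.map fun x => -x)) = true := by
  decide +kernel

theorem pm_of_key {r r' : leechLattice} (hr : Root8 r) (hr' : Root8 r') (h : key r' = key r) :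
    r' = r ∨ r' = -r := by
  obtain ⟨e, he, hl, hk, -⟩ := key_spec hr
  obtain ⟨e', he', hl', hk', -⟩ := key_spec hr'
  have hkk : e.2.2 = e'.2.2 := by
    refine Nat.eq_of_testBit_eq fun i => ?_
    by_cases hi : i < 8
    · obtain ⟨a, ha⟩ := pos8_surj ⟨i, hi⟩
      have := congrFun (hk'.symm.trans (h.trans hk)) a
      simp only [kvec, ha] at this
      revert this
      cases e.2.2.testBit i <;> cases e'.2.2.testBit i <;> decide
    · have hp : 256 ≤ 2 ^ i := le_trans (by norm_num)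
        (Nat.pow_le_pow_right (by norm_num : 0 < 2) (le_of_not_gt hi))
      rw [Nat.testBit_lt_two_pow (lt_of_lt_of_le (key_table e he).1 hp),
        Nat.testBit_lt_two_pow (lt_of_lt_of_le (key_table e' he').1 hp)]
  have := List.all_eq_true.1 (List.all_eq_true.1 key8_sep e he) e' he'
  simp only [hkk, Nat.beq_refl, Bool.not_true, Bool.false_or, Bool.or_eq_true,
    decide_eq_true_eq] at this
  rcases this with hh | hh
  · left; exact Subtype.ext (lOf_inj (by rw [← hl, ← hl', hh]))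
  · right
    exact Subtype.ext (lOf_inj (by rw [NegMemClass.coe_neg, lOf_neg, ← hl, ← hl', hh]))

theorem ct_le_c1 : ct ≤ c1 := fun g hg => mem_c1.2 (mem_ct.1 hg).2

theorem negEl_mem_c1 : negEl ∈ c1 :=
  mem_c1.2 (Subgroup.mem_center_iff.1 negEl_central tEl)

theorem root8_v0 : Root8 v0 := ⟨by decide +kernel, v0_supp⟩

theorem fix_roots {g : Co0} (hg : g ∈ octFix) {r : leechLattice} (hr : Root8 r) : g • r = r :=
  octFix_fix_supp hg hr.2

theorem neg_smul_v0 {g : Co0} (h : g • v0 = -v0) : (negEl * g) • v0 = v0 := by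
  rw [mul_smul, negEl_smul, h, neg_neg]

theorem pr_neg8 {y r : leechLattice} (hy : Root8 y) (hr : Root8 r) : pr (-y) r = pr y r :=
  Co2Invol.pr_neg y r (dvd_dot8 hy hr)

theorem root8_neg {y : leechLattice} (hy : Root8 y) : Root8 (-y) := by
  refine ⟨?_, fun p hp => by rw [NegMemClass.coe_neg, Pi.neg_apply, hy.2 p hp, neg_zero]⟩
  rw [← hy.1, NegMemClass.coe_neg]
  simp [sqNorm]

theorem key_neg {y : leechLattice} (hy : Root8 y) : key (-y) = key y := by
  funext a
  rw [key, key, bd8, pr_bs8 (root8_neg hy), pr_bs8 hy, pr_neg8 hy (root8_u1 _),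
    pr_neg8 hy (root8_u2 _)]

theorem psi_ker_mem {g : ↥c1} (hg : psi g = 1) :
    (g : Co0) ∈ octFix ∨ negEl * (g : Co0) ∈ octFix := by
  have hpm : ∀ r, Root8 r → (g : Co0) • r = r ∨ (g : Co0) • r = -r := fun r hr =>
    pm_of_key hr (root8_smul g.2 hr) (by
      rw [key_image g hr, mat8_eq_one_iff.1 hg, Matrix.one_mulVec])
  have hct : ∀ k : Co0, k ∈ c1 → k • v0 = v0 → (∀ r, Root8 r → k • r = r ∨ k • r = -r) →
      k ∈ octFix := by
    intro k hk hk0 hk8
    have hkc : k ∈ ct := mem_ct.2 ⟨hk0, mem_c1.1 hk⟩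
    refine Co2Invol.ker_le (g := ⟨k, hkc⟩) (Subtype.ext ?_)
    show Co2Invol.mat ⟨k, hkc⟩ = 1
    rw [← Co2Invol.mat_one]
    ext a j
    show pr (k • bs j) (bd a) = pr ((1 : Co0) • bs j) (bd a)
    rw [one_smul]
    rcases hk8 (bs j) ⟨(root_bs j).1, (root_bs j).2.2⟩ with h | h <;> rw [h]
    exact Co2Invol.pr_neg _ _ (dvd_dot (root_bs j) (root_bd a))
  rcases hpm v0 root8_v0 with h | h
  · exact Or.inl (hct g g.2 h hpm)
  · refine Or.inr (hct _ (mul_mem negEl_mem_c1 g.2) (neg_smul_v0 h) fun r hr => ?_)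
    rw [mul_smul, negEl_smul]
    rcases hpm r hr with h' | h' <;> rw [h']
    · exact Or.inr rfl
    · exact Or.inl (neg_neg r)

theorem psi_of_mem {g : ↥c1} (hg : (g : Co0) ∈ octFix ∨ negEl * (g : Co0) ∈ octFix) : psi g = 1 := by
  rw [mat8_eq_one_iff, ← mat8_one]
  ext a j
  have h : ∀ r, Root8 r → key ((g : Co0) • r) = key r := fun r hr => by
    rcases hg with hg | hg
    · rw [fix_roots hg hr]
    · have e : (g : Co0) • r = -r := by
        have := fix_roots hg hr
        rw [mul_smul, negEl_smul] at this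
        rw [← neg_neg ((g : Co0) • r), this]
      rw [e, key_neg hr]
  show pr ((g : Co0) • u1 j) (bd8 a) + pr ((g : Co0) • u2 j) (bd8 a) =
    pr ((1 : Co0) • u1 j) (bd8 a) + pr ((1 : Co0) • u2 j) (bd8 a)
  rw [one_smul, one_smul]
  exact congrArg₂ (· + ·) (congrFun (h _ (root8_u1 j)) a) (congrFun (h _ (root8_u2 j)) a)

theorem negEl_not_octFix : negEl ∉ octFix := fun h => by
  have := fix_roots h root8_v0
  rw [negEl_smul] at this
  have h0 := congrArg (fun x : leechLattice => lOf (x : GolayPt → ℤ)) this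
  exact (by decide +kernel : lOf ((-v0 : leechLattice) : GolayPt → ℤ) ≠ lOf (v0 : GolayPt → ℤ)) h0

theorem natCard_psi_ker : Nat.card ↥psi.ker = 1024 := by
  classical
  rw [show (1024 : ℕ) = 512 + 512 from rfl, ← natCard_octFix, ← Nat.card_sum]
  symm
  let f : ↥octFix ⊕ ↥octFix → ↥psi.ker := Sum.elim
    (fun k => ⟨⟨k.1, ct_le_c1 k.2.1⟩, psi_of_mem (Or.inl k.2)⟩)
    (fun k => ⟨⟨negEl * k.1, mul_mem negEl_mem_c1 (ct_le_c1 k.2.1)⟩, psi_of_mem (Or.inr (by
      show negEl * (negEl * k.1) ∈ octFix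
      rw [← mul_assoc, show negEl * negEl = (1 : Co0) from co0_ext fun i => by
        rw [mul_smul, negEl_smul, negEl_smul, neg_neg, one_smul], one_mul]
      exact k.2))⟩)
  refine Nat.card_congr (Equiv.ofBijective f ⟨?_, ?_⟩)
  · rintro (a | a) (b | b) h
    · exact congrArg Sum.inl (Subtype.ext (congrArg (fun x : ↥psi.ker => (x.1 : Co0)) h))
    · refine absurd ?_ negEl_not_octFix
      have e : (a : Co0) = negEl * b := congrArg (fun x : ↥psi.ker => (x.1 : Co0)) h
      rw [show negEl = (a : Co0) * (b : Co0)⁻¹ by rw [e, mul_inv_cancel_right]]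
      exact mul_mem a.2 (inv_mem b.2)
    · refine absurd ?_ negEl_not_octFix
      have e : negEl * a = (b : Co0) := congrArg (fun x : ↥psi.ker => (x.1 : Co0)) h
      rw [show negEl = (b : Co0) * (a : Co0)⁻¹ by rw [← e, mul_inv_cancel_right]]
      exact mul_mem b.2 (inv_mem a.2)
    · exact congrArg Sum.inr (Subtype.ext (mul_left_cancel
        (congrArg (fun x : ↥psi.ker => (x.1 : Co0)) h : negEl * (a : Co0) = negEl * b)))
  · intro g
    rcases psi_ker_mem g.2 with h | h
    · exact ⟨Sum.inl ⟨_, h⟩, rfl⟩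
    · refine ⟨Sum.inr ⟨_, h⟩, Subtype.ext (Subtype.ext ?_)⟩
      show negEl * (negEl * (g.1 : Co0)) = _
      rw [← mul_assoc, show negEl * negEl = (1 : Co0) from co0_ext fun i => by
        rw [mul_smul, negEl_smul, negEl_smul, neg_neg, one_smul], one_mul]

/-! ### The order -/

theorem gens_c1 : Gens c1 c1Gens := by
  refine ⟨fun P hP => ?_⟩
  have hok : c1Gens.all (fun P => P.all Stp.ok) = true := by decide +kernel
  have hs : sideB c1Gens = true := by decide +kernel
  have hok' := List.all_eq_true.1 hok P hP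
  obtain ⟨g, -, hg⟩ := exists_prog hok'
  refine ⟨hok', g, mem_c1.2 (commute_of_side fun p q hpq => ?_), hg⟩
  have hs' := List.all_eq_true.1 (List.all_eq_true.1 hs P hP) (idx p)
    (List.mem_range.2 (idx_lt p))
  rw [← lOf_bigE, ← hg] at hs'
  have hx := List.all_eq_true.1 hs' (((g • bigE p : leechLattice) : GolayPt → ℤ) q, idx q) (by
    rw [List.mem_zipIdx_iff_getElem?, lOf, List.getElem?_map, List.getElem?_range (idx_lt q)]
    simp [pt_idx])
  rw [Bool.or_eq_true, beq_iff_eq, decide_eq_true_eq] at hx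
  exact hx.resolve_left hpq

theorem ncard_orbit_v0 : (MulAction.orbit c1 v0).ncard = 240 := by
  classical
  refine le_antisymm ?_ (gens_c1.le_orbit (start := lOf (v0 : GolayPt → ℤ)) rfl
    (le_of_eq_of_le root8_v0.1 (by norm_num)) (w := c1Walk) (by decide +kernel))
  have hinj : Function.Injective fun y : leechLattice => lOf (y : GolayPt → ℤ) :=
    fun a b h => Subtype.ext (lOf_inj h)
  rw [← Set.ncard_image_of_injective _ hinj]
  refine le_trans (Set.ncard_le_ncard (t := (↑(e8Tab.map Prod.fst).toFinset : Set (List ℤ))) ?_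
    (Finset.finite_toSet _)) ?_
  · rintro _ ⟨_, ⟨g, rfl⟩, rfl⟩
    obtain ⟨e, he, hl⟩ := mem_e8Tab (root8_smul g.2 root8_v0)
    exact List.mem_toFinset.2 (List.mem_map.2 ⟨e, he, hl⟩)
  · rw [Set.ncard_coe_finset]
    exact le_trans (List.toFinset_card_le _) (le_of_eq (by decide +kernel))

theorem natCard_c1 : Nat.card ↥c1 = 512 * 348364800 := by
  have h : c1 ⊓ MulAction.stabilizer Co0 v0 = ct := by rw [ct, c1, inf_comm]
  rw [← ConwayArith.natCard_inf_stab (K := c1) v0, h, natCard_ct, ncard_orbit_v0]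

theorem psi_range : psi.range = Om := by
  have hprod := Subgroup.card_mul_index psi.ker
  rw [Subgroup.index_ker, natCard_psi_ker, natCard_c1] at hprod
  have hR : Nat.card ↥psi.range = 174182400 := by omega
  have hidx : psi.range.index = 2 := by
    have := Subgroup.card_mul_index psi.range
    rw [hR, natCard_iso] at this
    omega
  refine (Subgroup.eq_of_le_of_card_ge ?_ (by rw [hR, natCard_om])).symm
  haveI := Subgroup.normal_of_index_eq_two hidx
  show commutator Iso ≤ psi.range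
  refine (Subgroup.Normal.quotient_commutative_iff_commutator_le).1 ?_
  haveI : Fact (Nat.Prime 2) := ⟨Nat.prime_two⟩
  exact (isCyclic_of_prime_card (p := 2) (α := Iso ⧸ psi.range)
    (by rw [← Subgroup.index_eq_card, hidx])).isMulCommutative

end CfsgLib.Spor.Co1Invol
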